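import Groth.Agent.RegCompLib.FlatBC
import Groth.Prelude.Def_IntMult

/-!
Affine and stalkwise description of inverse image ideal sheaves.
-/

set_option autoImplicit false
universe u
open CategoryTheory CategoryTheory.Limits AlgebraicGeometry

namespace Groth.Agent.IdealStalkLib

variable {X S : Scheme.{u}}

/-- On affine opens the inverse image ideal sheaf is the extended ideal. -/
theorem comap_ideal (I : S.IdealSheafData) (g : X ⟶ S) {U : S.Opens} (hU : IsAffineOpen U) {V : X.Opens}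
    (hV : IsAffineOpen V) (hVU : V ≤ g ⁻¹ᵁ U) :
    (I.comap g).ideal ⟨V, hV⟩ = (I.ideal ⟨U, hU⟩).map (g.appLE U V hVU).hom := by
  letI : Algebra Γ(S, U) Γ(X, V) := (g.appLE U V hVU).hom.toAlgebra
  let A0 := I.ideal ⟨U, hU⟩
  let j := I.subschemeι
  let J : Ideal Γ(X, V) := A0.map (algebraMap Γ(S, U) Γ(X, V))
  have hs := j.app_surjective U hU
  have hk : RingHom.ker (j.app U).hom = A0 := I.ker_subschemeι_app ⟨U, hU⟩
  let e : (Γ(S, U) ⧸ A0) ≃+* Γ(I.subscheme, j ⁻¹ᵁ U) :=
    (Ideal.quotEquivOfEq hk.symm).trans (RingHom.quotientKerEquivOfSurjective hs)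
  have h2 : IsPullback (Spec.map (CommRingCat.ofHom (algebraMap Γ(S, U) (Γ(S, U) ⧸ A0))))
      (Spec.map e.toCommRingCatIso.inv ≫ (hU.preimage j).fromSpec) hU.fromSpec j := by
    refine (RegCompLib.isPullback_chart j hU).of_iso (Scheme.Spec.mapIso e.toCommRingCatIso.op) (Iso.refl _) (Iso.refl _) (Iso.refl _) ?_ ?_ (by simp) (by simp)
    · rw [Iso.refl_hom, Category.comp_id]
      show Spec.map (j.app U) = Spec.map e.toCommRingCatIso.hom ≫ Spec.map _
      rw [← Spec.map_comp]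
      rfl
    · rw [Iso.refl_hom, Category.comp_id]
      show _ = Spec.map e.toCommRingCatIso.hom ≫ _
      rw [← Spec.map_comp_assoc, Iso.inv_hom_id, Spec.map_id, Category.id_comp]
  obtain ⟨m, hm⟩ := RegSeqSlice.isPullback_spec_quot (B := Γ(S, U)) (B' := Γ(X, V)) A0 J rfl
  have h3 := hm.paste_vert h2
  have hfac : Spec.map (CommRingCat.ofHom (algebraMap Γ(S, U) Γ(X, V))) ≫ hU.fromSpec = hV.fromSpec ≫ g :=
    IsAffineOpen.SpecMap_appLE_fromSpec g hU hV hVU
  rw [hfac] at h3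
  let l := pullback.lift (Spec.map (CommRingCat.ofHom (Ideal.Quotient.mk J)) ≫ hV.fromSpec)
    (m ≫ Spec.map e.toCommRingCatIso.inv ≫ (hU.preimage j).fromSpec) (by rw [Category.assoc, h3.w])
  let i := pullback.fst g I.subschemeι
  have h4 : IsPullback (Spec.map (CommRingCat.ofHom (Ideal.Quotient.mk J))) l hV.fromSpec i :=
    IsPullback.of_bot (v₂₁ := pullback.snd g I.subschemeι) (by rw [pullback.lift_snd]; exact h3)
      (pullback.lift_fst ..).symm (IsPullback.of_hasPullback g I.subschemeι)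
  have h5 := RegCompLib.isPullback_chart i hV
  let ψ := Spec.preimage (h4.isoIsPullback _ _ h5).hom
  let χ := Spec.preimage (h4.isoIsPullback _ _ h5).inv
  have hψ : (CommRingCat.ofHom (Ideal.Quotient.mk J)) = i.app V ≫ ψ := Spec.map_injective (by
    rw [Spec.map_comp, Spec.map_preimage]
    exact (h4.isoIsPullback_hom_fst _ _ h5).symm)
  have hχ : i.app V = CommRingCat.ofHom (Ideal.Quotient.mk J) ≫ χ := Spec.map_injective (by
    rw [Spec.map_comp, Spec.map_preimage]
    exact (h4.isoIsPullback_inv_fst _ _ h5).symm)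
  show i.ker.ideal ⟨V, hV⟩ = J
  rw [Scheme.Hom.ker_apply]
  refine le_antisymm ?_ ?_
  · intro r hr
    rw [← Ideal.Quotient.eq_zero_iff_mem]
    show (CommRingCat.ofHom (Ideal.Quotient.mk J)) r = 0
    rw [hψ, CommRingCat.comp_apply, show (i.app V) r = 0 from hr, map_zero]
  · intro r hr
    show (i.app V) r = 0
    rw [hχ, CommRingCat.comp_apply, show (CommRingCat.ofHom (Ideal.Quotient.mk J)) r = 0 from Ideal.Quotient.eq_zero_iff_mem.2 hr, map_zero]

theorem map_germ_eq_of_le (I : X.IdealSheafData) {U V : X.affineOpens} (h : U ≤ V) (x : X) (hx : x ∈ (U : X.Opens)) :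
    (I.ideal V).map (X.presheaf.germ V x (h hx)).hom = (I.ideal U).map (X.presheaf.germ U x hx).hom := by
  rw [← I.map_ideal h, Ideal.map_map, ← CommRingCat.hom_comp]
  erw [X.presheaf.germ_res (homOfLE (show (U : X.Opens) ≤ V from h)) x hx]

/-- The stalk of an ideal sheaf is computed on any affine neighbourhood. -/
theorem stalkIdeal_eq (I : X.IdealSheafData) (U : X.affineOpens) (x : X) (hx : x ∈ (U : X.Opens)) :
    IntMult.stalkIdeal I x = (I.ideal U).map (X.presheaf.germ U x hx).hom := by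
  refine le_antisymm (iSup₂_le fun V hV => ?_) (le_iSup₂ (f := fun (U : X.affineOpens) (hx : x ∈ (U : X.Opens)) => (I.ideal U).map (X.presheaf.germ U x hx).hom) U hx)
  obtain ⟨_, ⟨W : X.Opens, hW, rfl⟩, hxW, hWle⟩ := X.isBasis_affineOpens.exists_subset_of_mem_open (a := x)
    (u := ↑((U : X.Opens) ⊓ V)) ⟨hx, hV⟩ ((U : X.Opens) ⊓ V).2
  rw [map_germ_eq_of_le I (U := ⟨W, hW⟩) (V := V) (fun y hy => (hWle hy).2) x hxW,
    map_germ_eq_of_le I (U := ⟨W, hW⟩) (V := U) (fun y hy => (hWle hy).1) x hxW]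

/-- The stalk of an inverse image ideal sheaf is the extended ideal. -/
theorem stalkIdeal_comap (I : S.IdealSheafData) (g : X ⟶ S) (x : X) :
    IntMult.stalkIdeal (I.comap g) x = (IntMult.stalkIdeal I (g x)).map (g.stalkMap x).hom := by
  obtain ⟨_, ⟨U : S.Opens, hU, rfl⟩, hxU, -⟩ := S.isBasis_affineOpens.exists_subset_of_mem_open (Set.mem_univ (g x)) isOpen_univ
  obtain ⟨_, ⟨V : X.Opens, hV, rfl⟩, hxV, hVU⟩ := X.isBasis_affineOpens.exists_subset_of_mem_open (a := x) (u := ↑(g ⁻¹ᵁ U)) hxU (g ⁻¹ᵁ U).2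
  rw [stalkIdeal_eq _ ⟨V, hV⟩ x hxV, stalkIdeal_eq _ ⟨U, hU⟩ _ hxU, comap_ideal I g hU hV hVU, Ideal.map_map, Ideal.map_map,
    ← CommRingCat.hom_comp, ← CommRingCat.hom_comp, Scheme.Hom.germ_stalkMap, Scheme.Hom.appLE, Category.assoc, X.presheaf.germ_res]

end Groth.Agent.IdealStalkLib
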