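import Groth.Agent.IdealStalkLib.Comap
import Groth.Agent.RegSeqSlice.Scheme
import Groth.Agent.FlatLocus.FibreStalk
import Groth.Agent.FlatLocus.FibreCrit
import Groth.Prelude.Def_BlowUp2

/-!
Fibrewise effective Cartier ideals flat over the base are effective Cartier.
-/

set_option autoImplicit false
universe u
open CategoryTheory CategoryTheory.Limits AlgebraicGeometry TensorProduct RingTheory.Sequence IsLocalRing

namespace Groth.Agent.IdealStalkLib

/-- An ideal with flat quotient meets an extended ideal in the product. -/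
theorem mem_map_mul_of_flat_quotient {A O : Type u} [CommRing A] [CommRing O] [Algebra A O] (I : Ideal O)
    [Module.Flat A (O ⧸ I)] (m : Ideal A) {z : O} (hz : z ∈ I) (hzm : z ∈ m.map (algebraMap A O)) :
    z ∈ m.map (algebraMap A O) * I := by
  let ι : ↥(I.restrictScalars A) →ₗ[A] O := (I.restrictScalars A).subtype
  let q : O →ₗ[A] O ⧸ I := (Ideal.Quotient.mkₐ A I).toLinearMap
  have hex : Function.Exact ι q := fun w =>
    ⟨fun h => ⟨⟨w, Ideal.Quotient.eq_zero_iff_mem.1 h⟩, rfl⟩, by rintro ⟨v, rfl⟩; exact Ideal.Quotient.eq_zero_iff_mem.2 v.2⟩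
  have hinj := LinearMap.lTensor_injective_of_exact_of_flat q Ideal.Quotient.mk_surjective ι Subtype.val_injective hex (A ⧸ m)
  let zI : ↥(I.restrictScalars A) := ⟨z, hz⟩
  have h0 : (Ideal.Quotient.mk m (1 : A)) ⊗ₜ[A] zI = 0 := hinj (by
    rw [map_zero, LinearMap.lTensor_tmul]
    refine (TensorProduct.quotTensorEquivQuotSMul O m).injective ?_
    rw [map_zero, TensorProduct.quotTensorEquivQuotSMul_mk_tmul, one_smul, Submodule.Quotient.mk_eq_zero, Ideal.smul_top_eq_map]
    exact hzm)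
  have h1 := congrArg (TensorProduct.quotTensorEquivQuotSMul ↥(I.restrictScalars A) m) h0
  rw [map_zero, TensorProduct.quotTensorEquivQuotSMul_mk_tmul, one_smul, Submodule.Quotient.mk_eq_zero] at h1
  have h2 : z ∈ Submodule.map ι (m • ⊤ : Submodule A ↥(I.restrictScalars A)) := ⟨zI, h1, rfl⟩
  rw [Submodule.map_smul''] at h2
  refine Submodule.smul_induction_on h2 (fun a ha w hw => ?_) (fun u v hu hv => add_mem hu hv)
  obtain ⟨v, -, rfl⟩ := hw
  rw [Algebra.smul_def]
  exact Ideal.mul_mem_mul (Ideal.mem_map_of_mem _ ha) v.2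

/-- Finitely generated ideals equal at a prime agree near it. -/
theorem exists_notMem_map_away_eq {R O : Type u} [CommRing R] [CommRing O] [Algebra R O] (q : Ideal R) [q.IsPrime]
    [IsLocalization.AtPrime O q] (I J : Ideal R) (hI : I.FG) (hJ : J.FG)
    (h : I.map (algebraMap R O) = J.map (algebraMap R O)) :
    ∃ u : R, u ∉ q ∧ ∀ (T : Type u) [CommRing T] [Algebra R T], IsUnit (algebraMap R T u) →
      I.map (algebraMap R T) = J.map (algebraMap R T) := by
  classical
  have key : ∀ I J : Ideal R, I.FG → I.map (algebraMap R O) ≤ J.map (algebraMap R O) →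
      ∃ u : R, u ∉ q ∧ ∀ z ∈ I, u * z ∈ J := by
    rintro I J ⟨G, rfl⟩ hle
    have hex : ∀ g : G, ∃ t : R, t ∉ q ∧ t * g.1 ∈ J := fun g => by
      obtain ⟨⟨⟨b, hb⟩, t⟩, hbt⟩ := (IsLocalization.mem_map_algebraMap_iff q.primeCompl O).1
        (hle (Ideal.mem_map_of_mem _ (Submodule.subset_span g.2)))
      rw [← map_mul] at hbt
      obtain ⟨c, hc⟩ := (IsLocalization.eq_iff_exists q.primeCompl O).1 hbt
      refine ⟨c * t, Ideal.IsPrime.mul_notMem inferInstance c.2 t.2, ?_⟩
      rw [show (c : R) * t * g.1 = c * (g.1 * t) by ring, hc]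
      exact Ideal.mul_mem_left _ _ hb
    choose t ht htJ using hex
    refine ⟨∏ g, t g, fun hm => ?_, fun z hz => ?_⟩
    · obtain ⟨g, -, hg⟩ := (Ideal.IsPrime.prod_mem_iff (p := q)).1 hm
      exact ht g hg
    · induction hz using Submodule.span_induction with
      | mem w hw =>
        rw [← Finset.mul_prod_erase _ _ (Finset.mem_univ (⟨w, hw⟩ : G)), mul_right_comm]
        exact Ideal.mul_mem_right _ _ (htJ ⟨w, hw⟩)
      | zero => rw [mul_zero]; exact zero_mem _
      | add u v _ _ hu hv => rw [mul_add]; exact add_mem hu hv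
      | smul r u _ hu => rw [smul_eq_mul, mul_left_comm]; exact Ideal.mul_mem_left _ _ hu
  obtain ⟨u, huq, hu⟩ := key I J hI h.le
  obtain ⟨v, hvq, hv⟩ := key J I hJ h.ge
  refine ⟨u * v, Ideal.IsPrime.mul_notMem inferInstance huq hvq, fun T _ _ hT => ?_⟩
  rw [map_mul, IsUnit.mul_iff] at hT
  refine le_antisymm (Ideal.map_le_iff_le_comap.2 fun z hz => ?_) (Ideal.map_le_iff_le_comap.2 fun z hz => ?_) <;> rw [Ideal.mem_comap]
  · have := Ideal.mem_map_of_mem (algebraMap R T) (hu z hz)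
    rw [map_mul] at this
    exact (Ideal.unit_mul_mem_iff_mem _ hT.1).1 this
  · have := Ideal.mem_map_of_mem (algebraMap R T) (hv z hz)
    rw [map_mul] at this
    exact (Ideal.unit_mul_mem_iff_mem _ hT.2).1 this

variable {X S : Scheme.{u}}

theorem stalkIdeal_le_maximal (I : X.IdealSheafData) {x : X} (hx : x ∈ I.support) :
    IntMult.stalkIdeal I x ≤ maximalIdeal (X.presheaf.stalk x) := by
  refine iSup₂_le fun U hU => Ideal.map_le_iff_le_comap.2 fun r hr => ?_
  have h1 : x ∈ X.zeroLocus (U := (U : X.Opens)) (I.ideal U : Set _) := (Scheme.IdealSheafData.mem_support_iff_of_mem hU).1 hx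
  rw [Scheme.mem_zeroLocus_iff] at h1
  exact (mem_maximalIdeal _).2 fun hu => h1 r hr ((X.mem_basicOpen r x hU).2 hu)

theorem exists_unit_nhd (I : X.IdealSheafData) {x : X} (hx : x ∉ I.support) :
    ∃ U : X.affineOpens, x ∈ (U : X.Opens) ∧ I.ideal U = ⊤ := by
  obtain ⟨_, ⟨U : X.Opens, hU, rfl⟩, hxU, -⟩ := X.isBasis_affineOpens.exists_subset_of_mem_open (Set.mem_univ x) isOpen_univ
  have h1 : x ∉ X.zeroLocus (U := U) (I.ideal ⟨U, hU⟩ : Set _) := fun h => hx ((Scheme.IdealSheafData.mem_support_iff_of_mem (U := ⟨U, hU⟩) hxU).2 h)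
  rw [Scheme.mem_zeroLocus_iff] at h1
  push Not at h1
  obtain ⟨r, hr, hxr⟩ := h1
  refine ⟨X.affineBasicOpen (U := ⟨U, hU⟩) r, hxr, Ideal.eq_top_of_isUnit_mem _ ?_ ((RingedSpace.isUnit_res_basicOpen _ r))⟩
  rw [← I.map_ideal_basicOpen ⟨U, hU⟩ r]
  exact Ideal.mem_map_of_mem _ hr

/-- The kernel of the stalk map of a closed subscheme is the stalk of its ideal. -/
theorem ker_stalkMap_subschemeι (I : X.IdealSheafData) (z : I.subscheme) :
    RingHom.ker (I.subschemeι.stalkMap z).hom = IntMult.stalkIdeal I (I.subschemeι z) := by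
  set x := I.subschemeι z with hxdef
  obtain ⟨_, ⟨U : X.Opens, hU, rfl⟩, hxU, -⟩ := X.isBasis_affineOpens.exists_subset_of_mem_open (Set.mem_univ x) isOpen_univ
  rw [stalkIdeal_eq I ⟨U, hU⟩ x hxU]
  letI : Algebra Γ(X, U) (X.presheaf.stalk x) := TopCat.Presheaf.algebra_section_stalk X.presheaf ⟨x, hxU⟩
  haveI := hU.isLocalization_stalk ⟨x, hxU⟩
  letI : Algebra Γ(I.subscheme, I.subschemeι ⁻¹ᵁ U) (I.subscheme.presheaf.stalk z) :=
    TopCat.Presheaf.algebra_section_stalk I.subscheme.presheaf ⟨z, hxU⟩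
  haveI := (hU.preimage I.subschemeι).isLocalization_stalk ⟨z, hxU⟩
  have hnat : ∀ r : Γ(X, U), I.subschemeι.stalkMap z (algebraMap Γ(X, U) (X.presheaf.stalk x) r) =
      algebraMap _ (I.subscheme.presheaf.stalk z) (I.subschemeι.app U r) := fun r =>
    Scheme.Hom.germ_stalkMap_apply I.subschemeι U z hxU r
  refine le_antisymm (fun w hw => ?_) (Ideal.map_le_iff_le_comap.2 fun r hr => ?_)
  · obtain ⟨r, t, rfl⟩ := IsLocalization.exists_mk'_eq (hU.primeIdealOf ⟨x, hxU⟩).asIdeal.primeCompl w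
    have h1 : algebraMap _ (I.subscheme.presheaf.stalk z) (I.subschemeι.app U r) = 0 := by
      rw [← hnat, ← IsLocalization.mk'_spec (X.presheaf.stalk x) r t, map_mul]
      exact mul_eq_zero_of_left hw _
    obtain ⟨c, hc⟩ := (IsLocalization.map_eq_zero_iff ((hU.preimage I.subschemeι).primeIdealOf ⟨z, hxU⟩).asIdeal.primeCompl _ _).1 h1
    obtain ⟨c', hc'⟩ := I.subschemeι.app_surjective U hU c
    have hc1 : c' ∉ (hU.primeIdealOf ⟨x, hxU⟩).asIdeal := fun hm => c.2 (by
      by_contra hn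
      have h2 := IsLocalization.map_units (I.subscheme.presheaf.stalk z)
        (⟨c, hn⟩ : ((hU.preimage I.subschemeι).primeIdealOf ⟨z, hxU⟩).asIdeal.primeCompl)
      rw [← hc', ← hnat] at h2
      have h3 := (isUnit_map_iff (I.subschemeι.stalkMap z).hom _).1 h2
      exact (IsLocalization.AtPrime.isUnit_to_map_iff (X.presheaf.stalk x) (hU.primeIdealOf ⟨x, hxU⟩).asIdeal c').1 h3 hm)
    have h4 : c' * r ∈ I.ideal ⟨U, hU⟩ := by
      rw [← I.ker_subschemeι_app ⟨U, hU⟩, RingHom.mem_ker, map_mul]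
      show (I.subschemeι.app U) c' * _ = 0
      rw [hc']
      exact hc
    exact (IsLocalization.mk'_mem_map_algebraMap_iff (hU.primeIdealOf ⟨x, hxU⟩).asIdeal.primeCompl (X.presheaf.stalk x) _ r t).2 ⟨c', hc1, h4⟩
  · rw [Ideal.mem_comap, RingHom.mem_ker]
    show I.subschemeι.stalkMap z (algebraMap Γ(X, U) _ r) = 0
    rw [hnat, show I.subschemeι.app U r = 0 from (I.ker_subschemeι_app ⟨U, hU⟩).ge hr, map_zero]

set_option maxHeartbeats 800000 in
theorem isEffCartier_of_fibres (φ : X ⟶ S) [LocallyOfFinitePresentation φ] [Flat φ]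
    (I : X.IdealSheafData) [Flat (I.subschemeι ≫ φ)] [LocallyOfFinitePresentation (I.subschemeι ≫ φ)]
    (hfib : ∀ s : ↥S, BlowUp.IsEffCartierIdeal (I.comap (φ.fiberι s))) : BlowUp.IsEffCartierIdeal I := by
  intro x
  by_cases hx : x ∈ I.support
  swap
  · obtain ⟨U, hxU, hU⟩ := exists_unit_nhd I hx
    exact ⟨U, hxU, 1, one_mem _, by rw [hU, Ideal.span_singleton_one]⟩
  haveI : LocallyOfFinitePresentation I.subschemeι := FlatLocus.locallyOfFinitePresentation_of_comp (f := I.subschemeι) (g := φ)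
  have hflat : (φ.stalkMap x).hom.Flat := Flat.stalkMap φ x
  have hgen : ∃ h : X.presheaf.stalk x, h ∈ IntMult.stalkIdeal I x ∧
      IntMult.stalkIdeal I x ≤ Ideal.span {h} ⊔ Ideal.map (φ.stalkMap x).hom (maximalIdeal (S.presheaf.stalk (φ x))) ∧
      Ideal.Quotient.mk (Ideal.map (φ.stalkMap x).hom (maximalIdeal (S.presheaf.stalk (φ x)))) h ∈
        nonZeroDivisors (↑(X.presheaf.stalk x) ⧸ Ideal.map (φ.stalkMap x).hom (maximalIdeal (S.presheaf.stalk (φ x)))) := by
    suffices H : ∀ (s : S) (z : φ.fiber s), let x' := φ.fiberι s z; ∃ h : X.presheaf.stalk x', h ∈ IntMult.stalkIdeal I x' ∧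
      IntMult.stalkIdeal I x' ≤ Ideal.span {h} ⊔ Ideal.map (φ.stalkMap x').hom (maximalIdeal (S.presheaf.stalk (φ x'))) ∧
      Ideal.Quotient.mk (Ideal.map (φ.stalkMap x').hom (maximalIdeal (S.presheaf.stalk (φ x')))) h ∈
        nonZeroDivisors (↑(X.presheaf.stalk x') ⧸ Ideal.map (φ.stalkMap x').hom (maximalIdeal (S.presheaf.stalk (φ x')))) by
      have h1 := H (φ x) (φ.asFiber x)
      rwa [φ.fiberι_asFiber x] at h1
    intro s z
    obtain ⟨W, hzW, g, hg, hgW⟩ := hfib s z
    let π := ((φ.fiberι s).stalkMap z).hom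
    have hs := FlatLocus.fiberι_stalkMap_surjective φ s z
    have hker := FlatLocus.ker_fiberι_stalkMap φ s z
    let gz := (φ.fiber s).presheaf.germ W z hzW g
    letI : Algebra Γ(φ.fiber s, W) ((φ.fiber s).presheaf.stalk z) := TopCat.Presheaf.algebra_section_stalk _ ⟨z, hzW⟩
    haveI := W.2.isLocalization_stalk ⟨z, hzW⟩
    have hgz : gz ∈ nonZeroDivisors _ := IsLocalization.map_nonZeroDivisors_le (W.2.primeIdealOf ⟨z, hzW⟩).asIdeal.primeCompl _ ⟨g, hg, rfl⟩
    have hI : (IntMult.stalkIdeal I (φ.fiberι s z)).map π = Ideal.span {gz} := by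
      rw [← stalkIdeal_comap, stalkIdeal_eq _ W z hzW, hgW, Ideal.map_span, Set.image_singleton]
    obtain ⟨h, hh, hπ⟩ := (Ideal.mem_map_iff_of_surjective π hs).1 (hI.ge (Ideal.mem_span_singleton_self gz))
    refine ⟨h, hh, ?_, ?_⟩
    · refine (Ideal.le_comap_map (f := π)).trans (le_of_eq ?_)
      rw [hI, ← hπ, ← Set.image_singleton, ← Ideal.map_span, Ideal.comap_map_of_surjective _ hs, ← RingHom.ker_eq_comap_bot, hker]
    · let e := (Ideal.quotEquivOfEq hker.symm).trans (RingHom.quotientKerEquivOfSurjective hs)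
      refine mem_nonZeroDivisors_iff_right.2 fun w hw => e.injective ?_
      rw [map_zero]
      refine mem_nonZeroDivisors_iff_right.1 hgz _ ?_
      rw [show gz = e (Ideal.Quotient.mk _ h) from hπ.symm, ← map_mul, hw, map_zero]
  obtain ⟨h, hh, hle, hnz⟩ := hgen
  have hm : h ∈ maximalIdeal (X.presheaf.stalk x) := stalkIdeal_le_maximal I hx hh
  obtain ⟨U, hU, hxU, b, hb, hwr, -, -, -, -, -⟩ := RegSeqSlice.exists_regular_slice φ x hflat (fun _ : Fin 1 => h) (fun _ => hm) (by
    simp only [List.ofFn_succ, List.ofFn_zero]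
    rw [isWeaklyRegular_singleton_iff]
    intro a c hac
    simp only [smul_eq_mul] at hac
    exact (isRegular_iff_mem_nonZeroDivisors.2 hnz).left hac)
  simp only [List.ofFn_succ, List.ofFn_zero, isWeaklyRegular_singleton_iff] at hwr
  let A := S.presheaf.stalk (φ x)
  let O := X.presheaf.stalk x
  let J := IntMult.stalkIdeal I x
  letI : Algebra A O := (φ.stalkMap x).hom.toAlgebra
  letI : Algebra Γ(X, U) O := TopCat.Presheaf.algebra_section_stalk X.presheaf ⟨x, hxU⟩
  haveI := hU.isLocalization_stalk ⟨x, hxU⟩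
  have hfg : (I.ideal ⟨U, hU⟩).FG := by
    have h1 := I.subschemeι.finitePresentation_appLE hU (hU.preimage I.subschemeι) le_rfl
    rw [← Scheme.Hom.app_eq_appLE] at h1
    letI := (I.subschemeι.app U).hom.toAlgebra
    haveI : Algebra.FinitePresentation Γ(X, U) Γ(I.subscheme, I.subschemeι ⁻¹ᵁ U) := h1
    rw [← I.ker_subschemeι_app ⟨U, hU⟩]
    exact Algebra.FinitePresentation.ker_fG_of_surjective (Algebra.ofId Γ(X, U) Γ(I.subscheme, I.subschemeι ⁻¹ᵁ U))
      (I.subschemeι.app_surjective U hU)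
  have hJU : J = (I.ideal ⟨U, hU⟩).map (algebraMap Γ(X, U) O) := stalkIdeal_eq I ⟨U, hU⟩ x hxU
  have hJflat : Module.Flat A (O ⧸ J) := by
    obtain ⟨z, rfl⟩ : ∃ z, I.subschemeι z = x := by
      rw [← Set.mem_range, Scheme.IdealSheafData.range_subschemeι]; exact hx
    have hker : RingHom.ker (I.subschemeι.stalkMap z).hom = J := ker_stalkMap_subschemeι I z
    have h1 : ((I.subschemeι ≫ φ).stalkMap z).hom.Flat := Flat.stalkMap _ z
    rw [Scheme.Hom.stalkMap_comp] at h1
    let e : (O ⧸ J) ≃+* I.subscheme.presheaf.stalk z :=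
      (Ideal.quotEquivOfEq hker.symm).trans (RingHom.quotientKerEquivOfSurjective (I.subschemeι.stalkMap_surjective z))
    letI := ((φ.stalkMap (I.subschemeι z)) ≫ I.subschemeι.stalkMap z).hom.toAlgebra
    haveI : Module.Flat A (I.subscheme.presheaf.stalk z) := h1
    exact Module.Flat.of_linearEquiv (AlgEquiv.ofRingEquiv (f := e) (fun a => rfl)).toLinearEquiv
  have hJ : J = Ideal.span {h} := by
    refine le_antisymm ?_ (Ideal.span_le.2 (Set.singleton_subset_iff.2 hh))
    refine Submodule.le_of_le_smul_of_le_jacobson_bot (I := maximalIdeal O) (by rw [hJU]; exact hfg.map _) (maximalIdeal_le_jacobson _) fun w hw => ?_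
    obtain ⟨u, hu, v, hv, rfl⟩ := Submodule.mem_sup.1 (hle hw)
    refine Submodule.add_mem_sup hu ?_
    have hv' : v ∈ J := by
      rw [show v = (u + v) - u by ring]
      exact sub_mem hw ((Ideal.span_le.2 (Set.singleton_subset_iff.2 hh)) hu)
    have h2 := mem_map_mul_of_flat_quotient J (maximalIdeal A) hv' hv
    refine Ideal.mul_mono_left ?_ h2
    exact ((local_hom_TFAE (algebraMap A O)).out 0 2).1 (show IsLocalHom (φ.stalkMap x).hom from inferInstance)
  obtain ⟨t, htq, ht⟩ := exists_notMem_map_away_eq (O := O) (hU.primeIdealOf ⟨x, hxU⟩).asIdeal (I.ideal ⟨U, hU⟩) (Ideal.span {b 0}) hfg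
    ⟨{b 0}, by simp⟩ (by rw [← hJU, hJ, Ideal.map_span, Set.image_singleton]; exact congrArg (fun w => Ideal.span {w}) (hb 0).symm)
  have hxt : x ∈ X.basicOpen t := by
    rw [X.mem_basicOpen t x hxU]
    exact IsLocalization.map_units O (⟨t, htq⟩ : (hU.primeIdealOf ⟨x, hxU⟩).asIdeal.primeCompl)
  letI : Algebra Γ(X, U) Γ(X, X.basicOpen t) := (X.presheaf.map (homOfLE (X.basicOpen_le t)).op).hom.toAlgebra
  haveI : IsLocalization.Away t Γ(X, X.basicOpen t) := hU.isLocalization_basicOpen t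
  haveI : Module.Flat Γ(X, U) Γ(X, X.basicOpen t) := IsLocalization.flat _ (Submonoid.powers t)
  refine ⟨⟨X.basicOpen t, hU.basicOpen t⟩, hxt, algebraMap Γ(X, U) Γ(X, X.basicOpen t) (b 0), ?_, ?_⟩
  · have h1 := ((isWeaklyRegular_singleton_iff _ _).2 hwr).of_flat (S := Γ(X, X.basicOpen t))
    simp only [List.map_cons, List.map_nil, isWeaklyRegular_singleton_iff] at h1
    exact mem_nonZeroDivisors_iff_right.2 fun z hz => h1 (by simp only [smul_eq_mul, mul_zero]; rw [mul_comm, hz])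
  · refine (I.map_ideal_basicOpen ⟨U, hU⟩ t).symm.trans ?_
    show (I.ideal ⟨U, hU⟩).map (algebraMap Γ(X, U) Γ(X, X.basicOpen t)) = _
    rw [ht _ (IsLocalization.Away.algebraMap_isUnit t), Ideal.map_span, Set.image_singleton]

end Groth.Agent.IdealStalkLib
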